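import Mathlib

/-!
# S2276 (helper38): definitions and basic lemmas

`IsPEl p x` : `x` has `p`-power order.  `Good p x y` : `x * y` is not a `p`-element and
`⟨x, y⟩` is not solvable.  `Claim p α` : the statement of S2276 for `Perm α`.
-/

set_option autoImplicit false

namespace Cfsg.Agent.Helper38.FP

open Equiv

/-- `x` has `p`-power order. -/
def IsPEl {G : Type*} [Group G] (p : ℕ) (x : G) : Prop := ∃ k : ℕ, orderOf x = p ^ k

/-- `x * y` is not a `p`-element and `⟨x, y⟩` is not solvable. -/
def Good {G : Type*} [Group G] (p : ℕ) (x y : G) : Prop :=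
  ¬ IsPEl p (x * y) ∧ ¬ Group.IsSolvable ↥(Subgroup.closure ({x, y} : Set G))

/-- The statement of S2276 for `Perm α`. -/
def Claim (p : ℕ) (α : Type) [Fintype α] [DecidableEq α] : Prop :=
  ∀ u w : Perm α, u ≠ 1 → w ≠ 1 → IsPEl p u → IsPEl p w →
    ∃ g : Perm α, Perm.sign g = 1 ∧ Good p u (g * w * g⁻¹)

/-- `u` is transitive (a full cycle). -/
def IsFull {α : Type*} (u : Perm α) : Prop := ∀ a b : α, u.SameCycle a b

section basic

variable {G H : Type*} [Group G] [Group H] {p : ℕ}

theorem IsPEl.of_dvd [hp : Fact p.Prime] {x : G} {y : H} (h : orderOf y ∣ orderOf x) (hx : IsPEl p x) :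
    IsPEl p y := by
  obtain ⟨k, hk⟩ := hx
  rw [hk] at h
  obtain ⟨j, _, hj⟩ := (Nat.dvd_prime_pow hp.out).1 h
  exact ⟨j, hj⟩

theorem IsPEl.map [Fact p.Prime] (f : G →* H) {x : G} (hx : IsPEl p x) : IsPEl p (f x) :=
  hx.of_dvd (orderOf_map_dvd f x)

theorem IsPEl.pow [Fact p.Prime] {x : G} (hx : IsPEl p x) (n : ℕ) : IsPEl p (x ^ n) :=
  hx.of_dvd (orderOf_pow_dvd n)

theorem IsPEl.inv {x : G} (hx : IsPEl p x) : IsPEl p x⁻¹ := by
  obtain ⟨k, hk⟩ := hx
  exact ⟨k, by rw [orderOf_inv, hk]⟩

theorem isPEl_map_iff (f : G →* H) (hf : Function.Injective f) {x : G} :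
    IsPEl p (f x) ↔ IsPEl p x := by
  unfold IsPEl
  rw [orderOf_injective f hf]

theorem orderOf_conj' (a x : G) : orderOf (a * x * a⁻¹) = orderOf x :=
  orderOf_injective (MulAut.conj a).toMonoidHom (MulAut.conj a).injective x

theorem isPEl_conj_iff {x a : G} : IsPEl p (a * x * a⁻¹) ↔ IsPEl p x := by
  unfold IsPEl
  rw [orderOf_conj']

theorem isPEl_mul_comm {x y : G} : IsPEl p (x * y) ↔ IsPEl p (y * x) := by
  have : y * x = x⁻¹ * (x * y) * x⁻¹⁻¹ := by group
  rw [this, isPEl_conj_iff]

theorem map_closure_pair (f : G →* H) (x y : G) :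
    (Subgroup.closure ({x, y} : Set G)).map f = Subgroup.closure ({f x, f y} : Set H) := by
  rw [MonoidHom.map_closure, Set.image_pair]

/-- Solvability of the image of a two-generator subgroup. -/
theorem not_solvable_closure_of_map (f : G →* H) {x y : G}
    (h : ¬ Group.IsSolvable ↥(Subgroup.closure ({f x, f y} : Set H))) :
    ¬ Group.IsSolvable ↥(Subgroup.closure ({x, y} : Set G)) := by
  intro hs
  apply h
  rw [← map_closure_pair]
  exact Group.isSolvable_of_surjective
    (MonoidHom.subgroupMap_surjective f (Subgroup.closure ({x, y} : Set G)))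

theorem not_solvable_of_le {K L : Subgroup G} (hKL : K ≤ L) (h : ¬ Group.IsSolvable ↥K) :
    ¬ Group.IsSolvable ↥L := by
  intro hs
  exact h (Group.isSolvable_of_isSolvable_injective (Subgroup.inclusion_injective hKL))

theorem not_solvable_closure_map_of_injective (f : G →* H) (hf : Function.Injective f) {x y : G}
    (h : ¬ Group.IsSolvable ↥(Subgroup.closure ({x, y} : Set G))) :
    ¬ Group.IsSolvable ↥(Subgroup.closure ({f x, f y} : Set H)) := by
  intro hs
  apply h
  rw [← map_closure_pair] at hs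
  exact Group.isSolvable_of_isSolvable_injective
    (f := (Subgroup.equivMapOfInjective (Subgroup.closure ({x, y} : Set G)) f hf).toMonoidHom)
    (Subgroup.equivMapOfInjective (Subgroup.closure ({x, y} : Set G)) f hf).injective

theorem Good.of_map [Fact p.Prime] (f : G →* H) {x y : G} (h : Good p (f x) (f y)) :
    Good p x y := by
  refine ⟨fun hxy => h.1 ?_, not_solvable_closure_of_map f h.2⟩
  rw [← map_mul]
  exact hxy.map f

theorem Good.map_of_injective (f : G →* H) (hf : Function.Injective f) {x y : G}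
    (h : Good p x y) : Good p (f x) (f y) := by
  refine ⟨fun hxy => h.1 ?_, not_solvable_closure_map_of_injective f hf h.2⟩
  rw [← map_mul, isPEl_map_iff f hf] at hxy
  exact hxy

theorem Good.conj {x y : G} (h : Good p x y) (a : G) : Good p (a * x * a⁻¹) (a * y * a⁻¹) :=
  h.map_of_injective (MulAut.conj a).toMonoidHom (MulAut.conj a).injective

theorem Good.symm {x y : G} (h : Good p x y) : Good p y x := by
  refine ⟨fun hxy => h.1 (isPEl_mul_comm.1 hxy), ?_⟩
  rw [Set.pair_comm]
  exact h.2

/-- Swapping the roles of the two elements in the conclusion of `Claim`. -/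
theorem Good.swap_conj {x y g : G} (h : Good p y (g * x * g⁻¹)) : Good p x (g⁻¹ * y * g⁻¹⁻¹) := by
  have h1 := (h.conj g⁻¹).symm
  have e : g⁻¹ * (g * x * g⁻¹) * g⁻¹⁻¹ = x := by group
  rwa [e] at h1

end basic

section prodDesc

/-- `prodDesc v k = v (k-1) * ... * v 1 * v 0`. -/
def prodDesc {M : Type*} [Monoid M] (v : ℕ → M) : ℕ → M
  | 0 => 1
  | (k + 1) => v k * prodDesc v k

@[simp] theorem prodDesc_zero {M : Type*} [Monoid M] (v : ℕ → M) : prodDesc v 0 = 1 := rfl

theorem prodDesc_succ {M : Type*} [Monoid M] (v : ℕ → M) (k : ℕ) :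
    prodDesc v (k + 1) = v k * prodDesc v k := rfl

/-- Peeling the last factor `v 0`. -/
theorem prodDesc_succ' {M : Type*} [Monoid M] (v : ℕ → M) (k : ℕ) :
    prodDesc v (k + 1) = prodDesc (fun j => v (j + 1)) k * v 0 := by
  induction k with
  | zero => simp [prodDesc]
  | succ k ih => rw [prodDesc_succ, ih, prodDesc_succ, mul_assoc]

theorem prodDesc_congr {M : Type*} [Monoid M] {v v' : ℕ → M} {k : ℕ} (h : ∀ j < k, v j = v' j) :
    prodDesc v k = prodDesc v' k := by
  induction k with
  | zero => rfl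
  | succ k ih =>
    rw [prodDesc_succ, prodDesc_succ, h k (Nat.lt_succ_self k),
      ih (fun j hj => h j (Nat.lt_succ_of_lt hj))]

theorem map_prodDesc {M N : Type*} [Monoid M] [Monoid N] (f : M →* N) (v : ℕ → M) (k : ℕ) :
    f (prodDesc v k) = prodDesc (fun j => f (v j)) k := by
  induction k with
  | zero => simp
  | succ k ih => rw [prodDesc_succ, map_mul, ih, prodDesc_succ]

/-- `(u * w) ^ k = u ^ k * (c (k-1) * ... * c 0)` with `c j = u⁻¹ ^ j * w * u ^ j`. -/
theorem mul_pow_eq_pow_mul_prodDesc {G : Type*} [Group G] (u w : G) (k : ℕ) :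
    (u * w) ^ k = u ^ k * prodDesc (fun j => u⁻¹ ^ j * w * u ^ j) k := by
  induction k with
  | zero => simp
  | succ k ih =>
    rw [pow_succ', ih, prodDesc_succ, pow_succ]
    simp only [inv_pow]
    group

end prodDesc

section transport

variable {α β : Type} [Fintype α] [DecidableEq α] [Fintype β] [DecidableEq β] {p : ℕ}

/-- `Claim` is invariant under bijections of the underlying type. -/
theorem Claim.transport (h : Claim p α) (e : α ≃ β) : Claim p β := by
  intro u w hu hw hpu hpw
  let φ : Perm β ≃* Perm α := (e.permCongrHom).symm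
  have hφ : Function.Injective φ.toMonoidHom := φ.injective
  obtain ⟨g, hg, hgood⟩ := h (φ u) (φ w)
    (fun h1 => hu (φ.injective (h1.trans (map_one φ).symm)))
    (fun h1 => hw (φ.injective (h1.trans (map_one φ).symm)))
    ((isPEl_map_iff φ.toMonoidHom hφ).2 hpu) ((isPEl_map_iff φ.toMonoidHom hφ).2 hpw)
  refine ⟨φ.symm g, ?_, ?_⟩
  · change Perm.sign (e.permCongr g) = 1
    rw [Perm.sign_permCongr]; exact hg
  · have := hgood.map_of_injective φ.symm.toMonoidHom φ.symm.injective
    simpa using this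

end transport

section restrict
variable {α : Type*} {p : ℕ}

/-- The subgroup of permutations preserving the predicate `q`. -/
def stab (q : α → Prop) : Subgroup (Perm α) where
  carrier := {g | ∀ a, q (g a) ↔ q a}
  one_mem' := fun a => Iff.rfl
  mul_mem' := fun {g h} hg hh a => by rw [Perm.mul_apply, hg, hh]
  inv_mem' := fun {g} hg a => by
    simpa using (hg (g⁻¹ a)).symm

theorem mem_stab {q : α → Prop} {g : Perm α} : g ∈ stab q ↔ ∀ a, q (g a) ↔ q a := Iff.rfl

/-- Restriction to the subtype, as a homomorphism on `stab q`. -/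
def restr (q : α → Prop) : stab q →* Perm {a // q a} where
  toFun g := (g : Perm α).subtypePerm g.2
  map_one' := by ext; rfl
  map_mul' g h := by ext; rfl

@[simp] theorem restr_mk {q : α → Prop} (g : Perm α) (hg : g ∈ stab q) :
    restr q ⟨g, hg⟩ = g.subtypePerm hg := rfl

theorem isPEl_subtypePerm [Fact p.Prime] {q : α → Prop} (x : Perm α) (hx : ∀ a, q (x a) ↔ q a)
    (h : IsPEl p x) : IsPEl p (x.subtypePerm hx) := by
  have h1 : IsPEl p (⟨x, hx⟩ : stab q) :=
    (isPEl_map_iff (stab q).subtype (stab q).subtype_injective).1 h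
  exact h1.map (restr q)

theorem good_of_subtypePerm [Fact p.Prime] {q : α → Prop} (x y : Perm α)
    (hx : ∀ a, q (x a) ↔ q a) (hy : ∀ a, q (y a) ↔ q a)
    (h : Good p (x.subtypePerm hx) (y.subtypePerm hy)) : Good p x y := by
  have h1 : Good p (⟨x, hx⟩ : stab q) ⟨y, hy⟩ := Good.of_map (restr q) h
  exact h1.map_of_injective (stab q).subtype (stab q).subtype_injective

theorem not_solvable_of_subtypePerm {q : α → Prop} (H : Subgroup (Perm α)) (a b : Perm α)
    (ha : a ∈ H) (hb : b ∈ H) (hqa : ∀ c, q (a c) ↔ q c) (hqb : ∀ c, q (b c) ↔ q c)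
    (h : ¬ Group.IsSolvable ↥(Subgroup.closure
      ({a.subtypePerm hqa, b.subtypePerm hqb} : Set (Perm {c // q c})))) :
    ¬ Group.IsSolvable ↥H := by
  have h1 : ¬ Group.IsSolvable ↥(Subgroup.closure ({⟨a, hqa⟩, ⟨b, hqb⟩} : Set (stab q))) :=
    not_solvable_closure_of_map (restr q) h
  have h2 := not_solvable_closure_map_of_injective (stab q).subtype (stab q).subtype_injective h1
  simp only [Subgroup.coe_subtype] at h2
  refine not_solvable_of_le ?_ h2
  rw [Subgroup.closure_le]
  rintro c (rfl | rfl)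
  · exact ha
  · exact hb

end restrict

section full
variable {α : Type*} [Fintype α] [DecidableEq α]

theorem IsFull.support_eq_univ {u : Perm α} (hu : IsFull u) (h2 : 2 ≤ Fintype.card α) :
    u.support = Finset.univ := by
  ext a
  simp only [Perm.mem_support, Finset.mem_univ, iff_true]
  intro hfix
  obtain ⟨b, hb⟩ : ∃ b, b ≠ a := by
    obtain ⟨x, y, hxy⟩ := Fintype.exists_pair_of_one_lt_card (show 1 < Fintype.card α by omega)
    by_cases hx : x = a
    · exact ⟨y, fun hy => hxy (hx.trans hy.symm)⟩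
    · exact ⟨x, hx⟩
  obtain ⟨k, hk⟩ := hu a b
  have : (u ^ k) a = a := by
    have hfix' : ∀ n : ℕ, (u ^ n) a = a := fun n => by
      induction n with
      | zero => rfl
      | succ n ih => rw [pow_succ, Perm.mul_apply, hfix, ih]
    rcases Int.eq_nat_or_neg k with ⟨n, rfl | rfl⟩
    · simpa using hfix' n
    · rw [zpow_neg, zpow_natCast, Perm.inv_eq_iff_eq]
      exact (hfix' n).symm
  exact hb (hk.symm.trans this)

theorem IsFull.isCycle {u : Perm α} (hu : IsFull u) (h2 : 2 ≤ Fintype.card α) : u.IsCycle := by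
  have hs := hu.support_eq_univ h2
  obtain ⟨a⟩ : Nonempty α := Fintype.card_pos_iff.1 (by omega)
  have ha : u a ≠ a := by
    have : a ∈ u.support := hs ▸ Finset.mem_univ a
    exact Perm.mem_support.1 this
  exact ⟨a, ha, fun b _ => hu a b⟩

theorem IsFull.cycleType {u : Perm α} (hu : IsFull u) (h2 : 2 ≤ Fintype.card α) :
    u.cycleType = {Fintype.card α} := by
  rw [(hu.isCycle h2).cycleType, hu.support_eq_univ h2, Finset.card_univ]

theorem IsFull.orderOf_eq {u : Perm α} (hu : IsFull u) (h2 : 2 ≤ Fintype.card α) :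
    orderOf u = Fintype.card α := by
  rw [(hu.isCycle h2).orderOf, hu.support_eq_univ h2, Finset.card_univ]

theorem isFull_of_isCycle {u : Perm α} (hc : u.IsCycle) (hs : u.support = Finset.univ) :
    IsFull u := by
  intro a b
  exact hc.sameCycle (Perm.mem_support.1 (hs ▸ Finset.mem_univ a))
    (Perm.mem_support.1 (hs ▸ Finset.mem_univ b))

theorem isFull_of_cycleType {u : Perm α} (h : u.cycleType = {Fintype.card α}) : IsFull u := by
  have hc : u.IsCycle := Perm.card_cycleType_eq_one.1 (by rw [h]; rfl)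
  have hs : u.support.card = Fintype.card α := by
    rw [← Perm.sum_cycleType, h]; rfl
  exact isFull_of_isCycle hc (Finset.card_eq_iff_eq_univ _ |>.1 hs)

end full

section orb
variable {α : Type*} [Fintype α] [DecidableEq α]

/-- the orbit of `x` under `w` -/
def orb (w : Perm α) (x : α) : Finset α := Finset.univ.filter (fun y => w.SameCycle x y)

theorem mem_orb {w : Perm α} {x y : α} : y ∈ orb w x ↔ w.SameCycle x y := by
  simp [orb]

theorem self_mem_orb (w : Perm α) (x : α) : x ∈ orb w x := mem_orb.2 (Perm.SameCycle.refl w x)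

theorem apply_mem_orb_iff (w : Perm α) (x a : α) : w a ∈ orb w x ↔ a ∈ orb w x := by
  simp only [mem_orb, Perm.sameCycle_apply_right]

theorem card_orb (w : Perm α) (x : α) : (orb w x).card = orderOf (w.cycleOf x) := by
  by_cases hx : w x = x
  · have h1 : w.cycleOf x = 1 := Perm.cycleOf_eq_one_iff w |>.2 hx
    rw [h1, orderOf_one]
    have : orb w x = {x} := by
      ext y
      simp only [mem_orb, Finset.mem_singleton]
      constructor
      · intro h
        exact ((Perm.SameCycle.eq_of_left h) hx).symm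
      · rintro rfl; exact Perm.SameCycle.refl w y
    rw [this, Finset.card_singleton]
  · have hc := Perm.isCycle_cycleOf w hx
    rw [hc.orderOf]
    congr 1
    ext y
    rw [mem_orb, Perm.mem_support_cycleOf_iff]
    simp [Perm.mem_support, hx]

theorem orb_eq_of_mem {w : Perm α} {x y : α} (h : y ∈ orb w x) : orb w y = orb w x := by
  ext z
  rw [mem_orb] at h
  rw [mem_orb, mem_orb]
  exact ⟨fun hz => h.trans hz, fun hz => h.symm.trans hz⟩

theorem orderOf_cycleOf_eq_of_sameCycle {w : Perm α} {x y : α} (h : w.SameCycle x y) :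
    orderOf (w.cycleOf y) = orderOf (w.cycleOf x) := by
  rw [← card_orb, ← card_orb, orb_eq_of_mem (mem_orb.2 h)]

end orb

section cert
open scoped commutatorElement
variable {G : Type*} [Group G]

/-- Nonsolvability certificate (as in Mathlib's proof for `Perm (Fin 5)`): `g ≠ 1` is conjugate in
`H` to the commutator of `g` with an `H`-conjugate of `g`. -/
theorem not_solvable_of_cert (H : Subgroup G) (g y z : G) (hg : g ∈ H) (hy : y ∈ H) (hz : z ∈ H)
    (h1 : g ≠ 1) (key : g = z * (g * (y * g * y⁻¹) * g⁻¹ * (y * g * y⁻¹)⁻¹) * z⁻¹) :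
    ¬ Group.IsSolvable ↥H := by
  let g' : H := ⟨g, hg⟩
  let y' : H := ⟨y, hy⟩
  let z' : H := ⟨z, hz⟩
  have key' : g' = z' * ⁅g', y' * g' * y'⁻¹⁆ * z'⁻¹ := by
    apply Subtype.ext
    simpa [g', y', z', commutatorElement_def] using key
  refine not_isSolvable_of_mem_derivedSeries (g := g') (fun h => h1 (congrArg Subtype.val h)) ?_
  intro n
  induction n with
  | zero => exact Subgroup.mem_top g'
  | succ n ih =>
    rw [key', (derivedSeries_normal _ _).mem_comm_iff, inv_mul_cancel_left]
    exact Subgroup.commutator_mem_commutator ih ((derivedSeries_normal _ _).conj_mem _ ih _)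

/-- Version for a two-generator closure. -/
theorem not_solvable_closure_of_cert (a b g y z : G)
    (hg : g ∈ Subgroup.closure ({a, b} : Set G)) (hy : y ∈ Subgroup.closure ({a, b} : Set G))
    (hz : z ∈ Subgroup.closure ({a, b} : Set G))
    (h1 : g ≠ 1) (key : g = z * (g * (y * g * y⁻¹) * g⁻¹ * (y * g * y⁻¹)⁻¹) * z⁻¹) :
    ¬ Group.IsSolvable ↥(Subgroup.closure ({a, b} : Set G)) :=
  not_solvable_of_cert _ g y z hg hy hz h1 key

end cert

section npel
variable {G : Type*} [Group G] {p : ℕ}

/-- `x ^ j ≠ 1` has order dividing `m` coprime to `p`: then `x` is not a `p`-element. -/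
theorem not_isPEl_of_pow [hp : Fact p.Prime] (x : G) (j m : ℕ) (h1 : x ^ j ≠ 1)
    (h2 : (x ^ j) ^ m = 1) (hc : Nat.Coprime p m) : ¬ IsPEl p x := by
  intro hx
  obtain ⟨k, hk⟩ := hx.pow j
  have hdvd : orderOf (x ^ j) ∣ m := orderOf_dvd_of_pow_eq_one h2
  rcases Nat.eq_zero_or_pos k with rfl | hk0
  · rw [pow_zero, orderOf_eq_one_iff] at hk
    exact h1 hk
  · have : p ∣ m := dvd_trans (dvd_pow_self p hk0.ne') (hk ▸ hdvd)
    have := Nat.Coprime.eq_one_of_dvd hc this
    exact hp.out.one_lt.ne' this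

end npel

section reductions
variable {α : Type} [Fintype α] [DecidableEq α]

/-- The hypotheses of the orbit reduction: `C` is `u`-invariant, `D` is `w`-invariant, of the same
size in `[5, card α)`, and both act nontrivially. -/
def InvPair (u w : Perm α) : Prop :=
  ∃ C D : Finset α, (∀ a, u a ∈ C ↔ a ∈ C) ∧ (∀ a, w a ∈ D ↔ a ∈ D) ∧ C.card = D.card ∧
    5 ≤ C.card ∧ C.card < Fintype.card α ∧ (∃ a ∈ C, u a ≠ a) ∧ (∃ a ∈ D, w a ≠ a)

/-- Induction hypothesis. -/
def IH (p : ℕ) (α : Type) [Fintype α] : Prop :=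
  ∀ (β : Type) [Fintype β] [DecidableEq β], Fintype.card β < Fintype.card α →
    5 ≤ Fintype.card β → Claim p β

/-- the `j`-th block of `u` starting from `B` -/
def blk (B : Finset α) (u : Perm α) (j : ℕ) : Finset α := B.image (u ^ j)

theorem mem_blk (B : Finset α) (u : Perm α) (j : ℕ) (a : α) :
    a ∈ blk B u j ↔ (u⁻¹ ^ j) a ∈ B := by
  simp only [blk, Finset.mem_image]
  constructor
  · rintro ⟨b, hb, rfl⟩
    simpa [inv_pow] using hb
  · intro h
    exact ⟨_, h, by simp [inv_pow]⟩

theorem card_blk (B : Finset α) (u : Perm α) (j : ℕ) : (blk B u j).card = B.card :=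
  Finset.card_image_of_injective _ (u ^ j).injective

theorem disjoint_blk (B : Finset α) (u : Perm α) (k : ℕ)
    (hB : ∀ a ∈ B, ∀ j : ℕ, 0 < j → j < k → (u ^ j) a ∉ B) :
    ∀ i < k, ∀ j < k, i ≠ j → Disjoint (blk B u i) (blk B u j) := by
  have key : ∀ i j, i < j → j < k → Disjoint (blk B u i) (blk B u j) := by
    intro i j hij hj
    rw [Finset.disjoint_left]
    intro a hai haj
    rw [mem_blk] at hai haj
    have h1 := hB _ haj (j - i) (by omega) (by omega)
    apply h1
    have : (u ^ (j - i)) ((u⁻¹ ^ j) a) = (u⁻¹ ^ i) a := by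
      have hji : j = (j - i) + i := by omega
      conv_lhs => rw [hji, pow_add, Perm.mul_apply]
      simp [inv_pow]
    rw [this]; exact hai
  intro i hi j hj hij
  rcases lt_or_gt_of_ne hij with h | h
  · exact key i j h hj
  · exact (key j i h hi).symm

/-- conjugating `w` by a map sending `D` to the `j`-th block gives a block component in `stab`. -/
theorem comp_mem_stab (B : Finset α) (u w g₁ : Perm α) (D : Finset α) (j : ℕ)
    (hg₁ : ∀ a, g₁ a ∈ blk B u j ↔ a ∈ D) (hD : ∀ a, w a ∈ D ↔ a ∈ D) :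
    u⁻¹ ^ j * (g₁ * w * g₁⁻¹) * u ^ j ∈ stab (fun a => a ∈ B) := by
  intro a
  simp only [Perm.mul_apply]
  have e1 : ∀ b, (u⁻¹ ^ j) b ∈ B ↔ b ∈ blk B u j := fun b => (mem_blk B u j b).symm
  rw [e1, hg₁, hD, ← hg₁, ← e1]
  simp [inv_pow]

theorem sign_mul_self (s : ℤˣ) : s * s = 1 := by
  rcases Int.units_eq_one_or s with h | h <;> simp [h]

theorem exists_odd_perm {β : Type} [Fintype β] [DecidableEq β] (h : 2 ≤ Fintype.card β) :
    ∃ σ : Perm β, Perm.sign σ = -1 := by
  obtain ⟨a, b, hab⟩ := Fintype.exists_pair_of_one_lt_card (show 1 < Fintype.card β by omega)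
  exact ⟨swap a b, Perm.sign_swap hab⟩

end reductions

end Cfsg.Agent.Helper38.FP
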