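import Cfsg.Agent.Helper38.FP.Defs
import Cfsg.Agent.Helper88.FPGL
import Cfsg.Agent.Helper34.FPR1
import Cfsg.Agent.Helper34.FPSB
import Cfsg.Agent.Helper48.FPSS
import Cfsg.Agent.Helper53.FPARITH
import Cfsg.Agent.Helper53.FPBF
import Cfsg.Agent.Helper55.FPFFa
import Cfsg.Agent.Helper55.FPFF3
import Cfsg.Agent.Helper97.FPFF5
import Cfsg.Agent.Helper75.FPB5
import Cfsg.Agent.Helper75.FPAD
import Cfsg.Agent.Helper67.FPB6
import Cfsg.Agent.Helper67.FPB9
import Cfsg.Agent.Helper93.FPFC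
import Cfsg.Agent.Helper63.FPPT
import Cfsg.Agent.Helper64.FPPM
import Cfsg.Agent.Helper64.FPSY

/-!
# S2276 (helper38): assembly of the pieces.
-/

set_option autoImplicit false

namespace Cfsg.Agent.Helper38.FP

open Equiv

variable {α : Type} [Fintype α] [DecidableEq α] {p : ℕ}

/-! ## First level pieces -/

/-- (FF) both full cycles. -/
theorem good_full_full [Fact p.Prime] (hp2 : p ≠ 2) (h5 : 5 ≤ Fintype.card α) (u w : Perm α)
    (hu : IsFull u) (hw : IsFull w) (hpu : IsPEl p u) :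
    ∃ g : Perm α, Perm.sign g = 1 ∧ Good p u (g * w * g⁻¹) := by
  by_cases hp3 : p = 3
  · subst hp3
    obtain ⟨τ₀, τ', h0, h1, g0, g1⟩ := Cfsg.Agent.Helper55.FP.exists_witness_three (Cfsg.Agent.Helper53.FP.nine_le_card h5 u hu hpu) u hu
    exact Cfsg.Agent.Helper55.FP.good_full_full_of_witness u w hu hw τ₀ τ' h0 h1 g0 g1
  · obtain ⟨τ₀, τ', h0, h1, g0, g1⟩ := Cfsg.Agent.Helper97.FP.exists_witness_ne_three hp3 h5 u hu
    exact Cfsg.Agent.Helper55.FP.good_full_full_of_witness u w hu hw τ₀ τ' h0 h1 g0 g1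

/-! ## Second level pieces (for the full / non-full case) -/

/-! ## Assembly of the full / non-full case -/

set_option maxHeartbeats 1000000 in
/-- (FN) `u` a full cycle, `w` not. -/
theorem good_full_nonfull [Fact p.Prime] (hp2 : p ≠ 2) (ih : IH p α) (u w : Perm α)
    (hu : IsFull u) (hpu : IsPEl p u) (hw1 : w ≠ 1) (hpw : IsPEl p w)
    (hpn : p ∣ Fintype.card α) (hord : orderOf w * p ∣ Fintype.card α)
    (h5 : 5 * p ≤ Fintype.card α) :
    ∃ g : Perm α, Perm.sign g = 1 ∧ Good p u (g * w * g⁻¹) := by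
  have hp : p.Prime := Fact.out
  have hp0 : 0 < p := hp.pos
  have hplt : p < Fintype.card α := by nlinarith [hp.two_le]
  obtain ⟨B, hBcard, hBz, hBdisj, a₀, ha₀B, ha₀⟩ := Cfsg.Agent.Helper93.FP.exists_block u hu hpn hplt
  have hM5 : 5 ≤ B.card := by
    by_contra hlt
    push Not at hlt
    have : B.card * p < 5 * p := Nat.mul_lt_mul_of_pos_right hlt hp0
    omega
  have hordM : orderOf w ∣ B.card := by
    rw [← hBcard] at hord
    exact Nat.dvd_of_mul_dvd_mul_right hp0 hord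
  obtain ⟨D, hDcard, hDinv, hDdisj, d₀, hd₀, hd₀w⟩ :=
    Cfsg.Agent.Helper63.FP.exists_partition w hw1 hpw B.card hBcard hordM
  obtain ⟨g₁, hg₁⟩ := Cfsg.Agent.Helper64.FP.exists_perm_mapping p D (blk B u) hDdisj (disjoint_blk B u p hBdisj)
    (fun j hj => by rw [hDcard j hj, card_blk])
  -- first approximation
  have hc₁ : ∀ j < p, u⁻¹ ^ j * (g₁ * w * g₁⁻¹) * u ^ j ∈ stab (fun a => a ∈ B) :=
    fun j hj => comp_mem_stab B u w g₁ (D j) j (hg₁ j hj) (hDinv j hj)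
  let v0 : ℕ → Perm {a // a ∈ B} := fun j =>
    if hj : j < p then restr (fun a => a ∈ B) ⟨_, hc₁ j hj⟩ else 1
  have hv0 : ∀ j < p, IsPEl p (v0 j) := by
    intro j hj
    simp only [v0, dif_pos hj]
    apply IsPEl.map
    rw [← isPEl_map_iff (stab (fun a => a ∈ B)).subtype (Subgroup.subtype_injective _)]
    simp only [Subgroup.coe_subtype]
    have : u⁻¹ ^ j * (g₁ * w * g₁⁻¹) * u ^ j
        = (u⁻¹ ^ j * g₁) * w * (u⁻¹ ^ j * g₁)⁻¹ := by simp [inv_pow]; group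
    rw [this, isPEl_conj_iff]
    exact hpw
  have hv00 : v0 0 ≠ 1 := by
    simp only [v0, dif_pos hp0]
    intro h1
    have hg₁d : g₁ d₀ ∈ B := by
      have := (hg₁ 0 hp0 d₀).2 hd₀
      simpa [blk] using this
    have := congrArg (fun f : Perm {a // a ∈ B} => (f ⟨g₁ d₀, hg₁d⟩ : α)) h1
    simp only [restr_mk, pow_zero, one_mul, mul_one, Perm.coe_one, id_eq] at this
    have h2 : (g₁ * w * g₁⁻¹) (g₁ d₀) = g₁ d₀ := this
    simp only [Perm.mul_apply, Perm.coe_inv, Equiv.symm_apply_apply,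
      EmbeddingLike.apply_eq_iff_eq] at h2
    exact hd₀w h2
  let z₀ : Perm {a // a ∈ B} := restr (fun a => a ∈ B) ⟨u ^ p, hBz⟩
  have hz₀1 : z₀ ≠ 1 := by
    intro h1
    have := congrArg (fun f : Perm {a // a ∈ B} => (f ⟨a₀, ha₀B⟩ : α)) h1
    simp [z₀, restr] at this
    exact ha₀ this
  have hz₀ : IsPEl p z₀ := by
    apply IsPEl.map
    rw [← isPEl_map_iff (stab (fun a => a ∈ B)).subtype (Subgroup.subtype_injective _)]
    exact hpu.pow p
  obtain ⟨y', hy'p, hy'1⟩ := Cfsg.Agent.Helper64.FP.exists_conj_prod hp2 z₀ hz₀1 hz₀ (fun j => v0 (j + 1)) (p - 1)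
    (fun j hj => hv0 (j + 1) (by omega))
  -- induction hypothesis on `B`
  have hclaim : Claim p {a // a ∈ B} := by
    apply ih
    · rw [Fintype.card_coe, ← hBcard]
      nlinarith [hp.two_le]
    · rw [Fintype.card_coe]; exact hM5
  -- sign bookkeeping
  obtain ⟨s, hs⟩ : ∃ s : ℤˣ, s = Perm.sign g₁ * prodDesc (fun j => Perm.sign (y' j)) (p - 1) :=
    ⟨_, rfl⟩
  obtain ⟨ζ, hζ⟩ : ∃ ζ, ζ = z₀ * prodDesc (fun j => y' j * v0 (j + 1) * (y' j)⁻¹) (p - 1) :=
    ⟨_, rfl⟩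
  rw [← hζ] at hy'p hy'1
  obtain ⟨y0, hy0sign, hy0good⟩ :
      ∃ y0 : Perm {a // a ∈ B}, Perm.sign y0 = s ∧ Good p ζ (y0 * v0 0 * y0⁻¹) := by
    rcases Int.units_eq_one_or s with hs1 | hs1
    · obtain ⟨h, hh, hg⟩ := hclaim ζ (v0 0) hy'1 hv00 hy'p (hv0 0 hp0)
      exact ⟨h, by rw [hh, hs1], hg⟩
    · obtain ⟨σ, hσ⟩ := exists_odd_perm (β := {a // a ∈ B}) (by rw [Fintype.card_coe]; omega)
      obtain ⟨h, hh, hg⟩ := hclaim ζ (σ * v0 0 * σ⁻¹) hy'1
        (fun h1 => hv00 (by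
          have : v0 0 = σ⁻¹ * (σ * v0 0 * σ⁻¹) * σ := by group
          rw [this, h1]; group))
        hy'p (isPEl_conj_iff.2 (hv0 0 hp0))
      refine ⟨h * σ, by rw [map_mul, hh, hσ, hs1, one_mul], ?_⟩
      have : h * σ * v0 0 * (h * σ)⁻¹ = h * (σ * v0 0 * σ⁻¹) * h⁻¹ := by group
      rw [this]; exact hg
  obtain ⟨y, hy0, hysucc⟩ : ∃ y : ℕ → Perm {a // a ∈ B}, y 0 = y0 ∧ ∀ j, y (j + 1) = y' j :=
    ⟨fun j => Nat.casesOn j y0 (fun j => y' j), rfl, fun _ => rfl⟩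
  obtain ⟨c, hcsign, hcadj⟩ := Cfsg.Agent.Helper75.FP.exists_adjust B u p hBdisj hBz y
  obtain ⟨m, hm⟩ : ∃ m, p = m + 1 := ⟨p - 1, by omega⟩
  have hm' : p - 1 = m := by omega
  refine ⟨c * g₁, ?_, ?_⟩
  · rw [map_mul, hcsign, hm, prodDesc_succ', hy0, hy0sign, hs, hm']
    simp only [hysucc]
    have e : ∀ a b : ℤˣ, a * (b * a) * b = (a * b) * (a * b) := fun a b => by ac_rfl
    rw [e, sign_mul_self]
  · have e1 : c * g₁ * w * (c * g₁)⁻¹ = c * (g₁ * w * g₁⁻¹) * c⁻¹ := by group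
    rw [e1]
    have hc2 : ∀ j (hj : j < p), ∃ h2 : u⁻¹ ^ j * (c * (g₁ * w * g₁⁻¹) * c⁻¹) * u ^ j
        ∈ stab (fun a => a ∈ B),
        restr (fun a => a ∈ B) ⟨_, h2⟩ = y j * v0 j * (y j)⁻¹ := by
      intro j hj
      obtain ⟨h2, h3⟩ := hcadj (g₁ * w * g₁⁻¹) j hj (hc₁ j hj)
      refine ⟨h2, ?_⟩
      rw [h3]
      simp only [v0, dif_pos hj]
    let c' : ℕ → stab (fun a => a ∈ B) := fun j =>
      if hj : j < p then ⟨_, (hc2 j hj).choose⟩ else 1
    have hc'0 : restr (fun a => a ∈ B) (c' 0) = y0 * v0 0 * y0⁻¹ := by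
      simp only [c', dif_pos hp0]
      rw [(hc2 0 hp0).choose_spec, hy0]
    have hc'succ : ∀ j < p - 1, restr (fun a => a ∈ B) (c' (j + 1))
        = y' j * v0 (j + 1) * (y' j)⁻¹ := by
      intro j hj
      have hj' : j + 1 < p := by omega
      simp only [c', dif_pos hj']
      rw [(hc2 (j + 1) hj').choose_spec, hysucc]
    apply Cfsg.Agent.Helper53.FP.good_of_blocks (fun a => a ∈ B) u (c * (g₁ * w * g₁⁻¹) * c⁻¹) p hp0 ⟨u ^ p, hBz⟩ rfl c'
      (fun j hj => by simp only [c', dif_pos hj])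
    rw [hc'0, prodDesc_congr hc'succ, ← hζ]
    exact hy0good

/-! ## Main assembly -/

/-- the core, under `orderOf w ≤ orderOf u`. -/
theorem core [Fact p.Prime] (hp2 : p ≠ 2) (ih : IH p α) (h5 : 5 ≤ Fintype.card α)
    (u w : Perm α) (hu1 : u ≠ 1) (hw1 : w ≠ 1) (hpu : IsPEl p u) (hpw : IsPEl p w)
    (hle : orderOf w ≤ orderOf u) :
    ∃ g : Perm α, Perm.sign g = 1 ∧ Good p u (g * w * g⁻¹) := by
  by_cases hbig : 5 ≤ orderOf u
  · rcases Cfsg.Agent.Helper34.FP.select_big u w hw1 hpu hpw hle hbig with hfull | hpair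
    · by_cases hwf : IsFull w
      · exact good_full_full hp2 h5 u w hfull hwf hpu
      · obtain ⟨⟨hpn, hord⟩, h5p | ⟨hp3, h9⟩⟩ :=
          Cfsg.Agent.Helper53.FP.full_nonfull_arith hp2 h5 u w hfull hpu hw1 hpw hwf
        · exact good_full_nonfull hp2 ih u w hfull hpu hw1 hpw hpn hord h5p
        · subst hp3
          exact Cfsg.Agent.Helper67.FP.good_nine h9 u w hfull hw1 hpw hwf
    · exact Cfsg.Agent.Helper34.FP.claim_of_invPair hp2 ih u w hpu hpw hpair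
  · push Not at hbig
    obtain ⟨hp3, hu3⟩ := Cfsg.Agent.Helper53.FP.order_three_of_lt_five hp2 u hu1 hpu hbig
    obtain ⟨_, hw3⟩ := Cfsg.Agent.Helper53.FP.order_three_of_lt_five hp2 w hw1 hpw (lt_of_le_of_lt hle hbig)
    subst hp3
    rcases Cfsg.Agent.Helper48.FP.select_small u w h5 hu3 hw3 with h | h | h
    · exact Cfsg.Agent.Helper75.FP.claim_five h u w hu1 hw1 hpu hpw
    · exact Cfsg.Agent.Helper67.FP.claim_six h u w hu1 hw1 hpu hpw
    · exact Cfsg.Agent.Helper34.FP.claim_of_invPair hp2 ih u w hpu hpw h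

/-- The claim for all finite types of size at least 5. -/
theorem claim_all [Fact p.Prime] (hp2 : p ≠ 2) :
    ∀ (N : ℕ) (α : Type) [Fintype α] [DecidableEq α], Fintype.card α = N → 5 ≤ N → Claim p α := by
  intro N
  induction N using Nat.strong_induction_on with
  | _ N hrec =>
    intro α _ _ hN h5 u w hu1 hw1 hpu hpw
    have ih : IH p α := fun β _ _ hlt h5β => hrec (Fintype.card β) (hN ▸ hlt) β rfl h5β
    rcases le_total (orderOf w) (orderOf u) with hle | hle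
    · exact core hp2 ih (hN ▸ h5) u w hu1 hw1 hpu hpw hle
    · obtain ⟨g, hg, hgood⟩ := core hp2 ih (hN ▸ h5) w u hw1 hu1 hpw hpu hle
      refine ⟨g⁻¹, by rw [map_inv, hg, inv_one], ?_⟩
      exact hgood.swap_conj

/-- The statement of S2276. -/
theorem final (n : ℕ) (hn : 5 ≤ n) (p : ℕ) (hp : p.Prime) (hp3 : 3 ≤ p)
    (u w : alternatingGroup (Fin n)) (hu : u ≠ 1) (hw : w ≠ 1)
    (hu' : ∃ k : ℕ, orderOf u = p ^ k) (hw' : ∃ k : ℕ, orderOf w = p ^ k) :
    ∃ g : alternatingGroup (Fin n), (¬ ∃ k : ℕ, orderOf (u * (g * w * g⁻¹)) = p ^ k) ∧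
      ¬ Group.IsSolvable ↥(Subgroup.closure
        ({u, g * w * g⁻¹} : Set (alternatingGroup (Fin n)))) := by
  have : Fact p.Prime := ⟨hp⟩
  have hp2 : p ≠ 2 := by omega
  have hinj := (alternatingGroup (Fin n)).subtype_injective
  obtain ⟨g, hg, hgood⟩ := claim_all hp2 n (Fin n) (Fintype.card_fin n) hn
    ((alternatingGroup (Fin n)).subtype u) ((alternatingGroup (Fin n)).subtype w)
    (fun h => hu (hinj (h.trans (map_one _).symm)))
    (fun h => hw (hinj (h.trans (map_one _).symm)))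
    ((isPEl_map_iff _ hinj).2 hu') ((isPEl_map_iff _ hinj).2 hw')
  refine ⟨⟨g, Equiv.Perm.mem_alternatingGroup.2 hg⟩, ?_⟩
  have h1 : Good p u (⟨g, Equiv.Perm.mem_alternatingGroup.2 hg⟩ * w *
      (⟨g, Equiv.Perm.mem_alternatingGroup.2 hg⟩ : alternatingGroup (Fin n))⁻¹) :=
    Good.of_map (alternatingGroup (Fin n)).subtype (by simpa using hgood)
  exact h1

end Cfsg.Agent.Helper38.FP
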